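import Cfsg.Agent.H97.TC.G2Q
import Cfsg.Agent.SporadicA.M11CharSimple
import Cfsg.Agent.Blocks.Basic

/-!
# Degrees of the characters of `G₂(q)`: at least `q ^ 2 (q - 1)` (helper97, S2464)

`deg_ge` : `3 ≠ 0` in `F`, `chevG2.group F` simple, `χ ≠ 1` irreducible: `q ^ 2 (q - 1) ≤ χ 1`.
-/

set_option autoImplicit false

open Cfsg Subgroup

namespace Cfsg.Agent.H97.TC

open Cfsg.Agent.Characters

universe u

/-- The degree bound in a finite group. -/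
theorem heis_group_deg {G : Type u} [Group G] [Finite G] {χ : G → ℂ} (hχ : IsCharacter G χ) {Q Z : Subgroup G}
    (hZQ : Z ≤ Q) (hZ : ∀ z ∈ Z, ∀ y ∈ Q, y * z = z * y) (h1 : ∀ v ∈ Q, v ∉ Z → ∀ z ∈ Z, IsConj v (z * v))
    (h2 : ∀ z ∈ Z, z ≠ 1 → ∀ z' ∈ Z, z' ≠ 1 → IsConj z z') {z₀ : G} (hz₀ : z₀ ∈ Z) (h3 : χ z₀ ≠ χ 1) {s : ℕ}
    (hs : s ^ 2 * Nat.card Z ≤ Nat.card Q) {D : ℕ} (hD : χ 1 = D) : s * (Nat.card Z - 1) ≤ D := by
  classical
  have : Fintype Q := Fintype.ofFinite _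
  have hcf := Core.isCharacter_isClassFunction hχ
  have hconj : ∀ {a b : G}, IsConj a b → χ a = χ b := by
    intro a b hab
    obtain ⟨w, rfl⟩ := isConj_iff.1 hab
    exact (hcf a w).symm
  have hχQ : IsCharacter Q (fun x : Q => χ x) := Core.isCharacter_comp Q.subtype hχ
  have hcard : Nat.card (Z.subgroupOf Q) = Nat.card Z := Nat.card_congr (Subgroup.subgroupOfEquivOfLe hZQ).toEquiv
  have hz1 : z₀ ≠ 1 := fun h => h3 (by rw [h])
  obtain ⟨a, m, hm, hDm, -, -⟩ := heis (Q := Q) (χ := fun x : Q => χ x) hχQ (Z := Z.subgroupOf Q)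
    (fun z hz => Subgroup.mem_center_iff.2 fun y => Subtype.ext (hZ z (Subgroup.mem_subgroupOf.1 hz) y y.2))
    (fun w hw z hz => (hconj (h1 w w.2 (fun h => hw (Subgroup.mem_subgroupOf.2 h)) z
      (Subgroup.mem_subgroupOf.1 hz))).symm)
    (c := χ z₀)
    (fun z hz hz' => hconj (h2 z (Subgroup.mem_subgroupOf.1 hz) (fun h => hz' (Subtype.ext h)) z₀ hz₀ hz1))
    (fun h => h3 h.symm)
    (fun h => hz1 (by
      have : (⟨z₀, hZQ hz₀⟩ : Q) ∈ Z.subgroupOf Q := Subgroup.mem_subgroupOf.2 hz₀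
      rw [h, Subgroup.mem_bot] at this
      exact congrArg Subtype.val this))
    (s := s) (by
      have h4 := (Z.subgroupOf Q).card_mul_index
      rw [hcard] at h4
      refine Nat.le_of_mul_le_mul_right ?_ (Nat.card_pos (α := Z))
      rw [mul_comm (Subgroup.index _), h4]
      exact hs) hD
  rw [hcard] at hDm
  have h6 : 1 ≤ Nat.card Z := Nat.card_pos (α := Z)
  have h6' : (1 : ℝ) ≤ Nat.card Z := by exact_mod_cast h6
  have h7 : (s : ℝ) * ((Nat.card Z : ℝ) - 1) ≤ m * ((Nat.card Z : ℝ) - 1) :=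
    mul_le_mul_of_nonneg_right hm (by linarith)
  have h8 : (0 : ℝ) ≤ a := Nat.cast_nonneg a
  have h9 : ((s * (Nat.card Z - 1) : ℕ) : ℝ) ≤ (D : ℝ) := by
    rw [Nat.cast_mul, Nat.cast_sub h6, Nat.cast_one, hDm]
    linarith
  exact_mod_cast h9

section H5

variable {F : Type u} [Field F] {G : Type u} [Group G] {A B C D E : F → G} {k l : F}

theorem H5.deg (h : H5 F A B C D E k l) [Finite F] [Finite G] (hT : ∀ t : F, t ≠ 0 → IsConj (E 1) (E t))
    {χ : G → ℂ} (hχ : IsCharacter G χ) (h3 : χ (E 1) ≠ χ 1) {n : ℕ} (hn : χ 1 = n) :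
    Nat.card F ^ 2 * (Nat.card F - 1) ≤ n := by
  have h1 := heis_group_deg hχ h.Z_le (fun z hz y hy => h.comm_ZQ hz hy) (fun v hv hvZ z hz => h.isConj hv hvZ hz)
    (by
      rintro _ ⟨e, rfl⟩ he _ ⟨e', rfl⟩ he'
      have h4 : e ≠ 0 := by rintro rfl; exact he (H5.zero_of_add h.Eadd)
      have h5 : e' ≠ 0 := by rintro rfl; exact he' (H5.zero_of_add h.Eadd)
      exact (hT e h4).symm.trans (hT e' h5))
    (z₀ := E 1) ⟨1, rfl⟩ h3 (s := Nat.card F ^ 2) (by rw [h.card_Z, h.card_Q]; ring_nf; exact le_rfl) hn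
  rw [h.card_Z] at h1
  exact h1

end H5

section G2

open Cfsg.Lie Cfsg.Agent.Omega.TwoF.GTwoLB

variable {F : Type u} [Field F]

/-- **Degrees of `G₂(q)`.** -/
theorem deg_ge [Finite F] (h3 : (3 : F) ≠ 0) [IsSimpleGroup ↥(chevG2.group F)] (χ : IrrCharacter ↥(chevG2.group F))
    (hχ : (χ : ↥(chevG2.group F) → ℂ) ≠ 1) :
    Nat.card F ^ 2 * (Nat.card F - 1) ≤ charDegree (χ : ↥(chevG2.group F) → ℂ) := by
  have hx1 : X (F := F) 11 1 ≠ 1 := fun h => one_ne_zero ((X_eq_one (by norm_num)).1 h)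
  obtain ⟨n, hn⟩ := Core.isCharacter_apply_one (Core.isIrr_isCharacter χ.2)
  rw [Blocks.Basic.charDegree_of_eq hn]
  exact (g2_h5 F h3).deg (fun _ ht => g2_long_conj ht) (Core.isIrr_isCharacter χ.2)
    (fun h => hχ (SporadicA.M11CharSimple.eq_one_of_apply_eq χ.2 hx1 h)) hn

end G2

end Cfsg.Agent.H97.TC
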