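import Cfsg.Agent.H97.TC.Zcent
import Cfsg.Agent.Mrg.Omega.Lie.HeisF

/-!
# Character values of `G₂(q)` on the radical `q^(1+4)` of the long root parabolic subgroup (helper97, S2464)

`bound`: `χ` a character of `chevG2.group F`, `3 ≠ 0` in `F`, `q = |F|`, `χ (X 11 1) ≠ χ 1`:
`‖χ v‖ ≤ χ 1 - q ^ 2 (q - 1)` for all `v ∈ Q - Z`, `Q = ⟨X 6, X 8, X 9, X 10, X 11⟩`, `Z = X 11`.
-/

set_option autoImplicit false

open Cfsg Subgroup

namespace Cfsg.Agent.H97.TC

universe u

/-- Heisenberg coordinates with four noncentral root groups. -/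
structure H5 (F : Type u) [Field F] {G : Type u} [Group G] (A B C D E : F → G) (k l : F) : Prop where
  Aadd : ∀ t u, A (t + u) = A t * A u
  Badd : ∀ t u, B (t + u) = B t * B u
  Cadd : ∀ t u, C (t + u) = C t * C u
  Dadd : ∀ t u, D (t + u) = D t * D u
  Eadd : ∀ t u, E (t + u) = E t * E u
  AB : ∀ t u, B t * A u = A u * B t
  AC : ∀ t u, C t * A u = A u * C t
  AD : ∀ t u, D t * A u = A u * D t * E (k * t * u)
  BC : ∀ t u, C t * B u = B u * C t * E (l * t * u)
  BD : ∀ t u, D t * B u = B u * D t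
  CD : ∀ t u, D t * C u = C u * D t
  EA : ∀ t u, E t * A u = A u * E t
  EB : ∀ t u, E t * B u = B u * E t
  EC : ∀ t u, E t * C u = C u * E t
  ED : ∀ t u, E t * D u = D u * E t
  k0 : k ≠ 0
  l0 : l ≠ 0
  inj : ∀ t, E t = 1 → t = 0

namespace H5

variable {F : Type u} [Field F] {G : Type u} [Group G] {A B C D E : F → G} {k l : F}

theorem zero_of_add {f : F → G} (h : ∀ t u, f (t + u) = f t * f u) : f 0 = 1 := by
  have := h 0 0
  rw [add_zero] at this
  exact left_eq_mul.1 this

/-- the general element -/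
def P (A B C D E : F → G) (a b c d e : F) : G := A a * B b * C c * D d * E e

variable (h : H5 F A B C D E k l)
include h

theorem EE (t u : F) : E t * E u = E u * E t := by rw [← h.Eadd, ← h.Eadd, add_comm]

theorem mul (a b c d e a' b' c' d' e' : F) : P A B C D E a b c d e * P A B C D E a' b' c' d' e' =
    P A B C D E (a + a') (b + b') (c + c') (d + d') (e + e' + k * d * a' + l * c * b') := by
  have e1 : ∀ (t : F) (x y : G), (∀ s, E s * x = x * E s) → E t * (x * y) = x * (E t * y) := by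
    intro t x y hx; rw [← mul_assoc, hx, mul_assoc]
  simp only [P, mul_assoc]
  -- move everything into place
  calc A a * (B b * (C c * (D d * (E e * (A a' * (B b' * (C c' * (D d' * E e'))))))))
      = A a * (B b * (C c * (D d * (A a' * (B b' * (C c' * (D d' * (E e * E e')))))))) := by
        rw [e1 e (A a') _ (fun s => h.EA s a'), e1 e (B b') _ (fun s => h.EB s b'), e1 e (C c') _ (fun s => h.EC s c'),
          e1 e (D d') _ (fun s => h.ED s d')]
    _ = A a * (B b * (C c * (A a' * (D d * (E (k * d * a') * (B b' * (C c' * (D d' * (E e * E e'))))))))) := by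
        rw [← mul_assoc (D d) (A a'), h.AD d a']; simp only [mul_assoc]
    _ = A a * (B b * (C c * (A a' * (D d * (B b' * (C c' * (D d' * (E (k * d * a') * (E e * E e'))))))))) := by
        rw [e1 _ (B b') _ (fun s => h.EB s b'), e1 _ (C c') _ (fun s => h.EC s c'), e1 _ (D d') _ (fun s => h.ED s d')]
    _ = A a * (B b * (A a' * (C c * (D d * (B b' * (C c' * (D d' * (E (k * d * a') * (E e * E e'))))))))) := by
        rw [← mul_assoc (C c) (A a'), h.AC c a']; simp only [mul_assoc]
    _ = A a * (A a' * (B b * (C c * (D d * (B b' * (C c' * (D d' * (E (k * d * a') * (E e * E e'))))))))) := by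
        rw [← mul_assoc (B b) (A a'), h.AB b a']; simp only [mul_assoc]
    _ = A a * (A a' * (B b * (C c * (B b' * (D d * (C c' * (D d' * (E (k * d * a') * (E e * E e'))))))))) := by
        rw [← mul_assoc (D d) (B b'), h.BD d b']; simp only [mul_assoc]
    _ = A a * (A a' * (B b * (B b' * (C c * (E (l * c * b') * (D d * (C c' * (D d' *
          (E (k * d * a') * (E e * E e')))))))))) := by
        rw [← mul_assoc (C c) (B b'), h.BC c b']; simp only [mul_assoc]
    _ = A a * (A a' * (B b * (B b' * (C c * (D d * (C c' * (D d' * (E (l * c * b') *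
          (E (k * d * a') * (E e * E e')))))))))) := by
        rw [e1 _ (D d) _ (fun s => h.ED s d), e1 _ (C c') _ (fun s => h.EC s c'), e1 _ (D d') _ (fun s => h.ED s d')]
    _ = A a * (A a' * (B b * (B b' * (C c * (C c' * (D d * (D d' * (E (l * c * b') *
          (E (k * d * a') * (E e * E e')))))))))) := by
        rw [← mul_assoc (D d) (C c'), h.CD d c']; simp only [mul_assoc]
    _ = A (a + a') * (B (b + b') * (C (c + c') * (D (d + d') * E (e + e' + k * (d * a') + l * (c * b'))))) := by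
        rw [h.Aadd, h.Badd, h.Cadd, h.Dadd,
          show e + e' + k * (d * a') + l * (c * b') = l * c * b' + (k * d * a' + (e + e')) by ring, h.Eadd, h.Eadd,
          h.Eadd]
        simp only [mul_assoc]

theorem one : P A B C D E 0 0 0 0 0 = 1 := by
  simp only [P, zero_of_add h.Aadd, zero_of_add h.Badd, zero_of_add h.Cadd, zero_of_add h.Dadd, zero_of_add h.Eadd,
    mul_one]

theorem inv (a b c d e : F) : (P A B C D E a b c d e)⁻¹ =
    P A B C D E (-a) (-b) (-c) (-d) (-e + k * d * a + l * c * b) := by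
  rw [inv_eq_iff_mul_eq_one, h.mul, ← h.one]
  congr 1 <;> ring

/-- the group -/
def Q : Subgroup G where
  carrier := {g | ∃ a b c d e : F, g = P A B C D E a b c d e}
  one_mem' := ⟨0, 0, 0, 0, 0, h.one.symm⟩
  mul_mem' := by
    rintro _ _ ⟨a, b, c, d, e, rfl⟩ ⟨a', b', c', d', e', rfl⟩
    exact ⟨_, _, _, _, _, h.mul _ _ _ _ _ _ _ _ _ _⟩
  inv_mem' := by
    rintro _ ⟨a, b, c, d, e, rfl⟩
    exact ⟨_, _, _, _, _, h.inv _ _ _ _ _⟩

theorem mem_Q {g : G} : g ∈ h.Q ↔ ∃ a b c d e : F, g = P A B C D E a b c d e := Iff.rfl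

/-- its centre -/
def Z : Subgroup G where
  carrier := {g | ∃ e : F, g = E e}
  one_mem' := ⟨0, (zero_of_add h.Eadd).symm⟩
  mul_mem' := by
    rintro _ _ ⟨e, rfl⟩ ⟨e', rfl⟩
    exact ⟨_, (h.Eadd _ _).symm⟩
  inv_mem' := by
    rintro _ ⟨e, rfl⟩
    exact ⟨-e, by rw [inv_eq_iff_mul_eq_one, ← h.Eadd, add_neg_cancel, zero_of_add h.Eadd]⟩

theorem mem_Z {g : G} : g ∈ h.Z ↔ ∃ e : F, g = E e := Iff.rfl

theorem E_eq (e : F) : E e = P A B C D E 0 0 0 0 e := by
  simp only [P, zero_of_add h.Aadd, zero_of_add h.Badd, zero_of_add h.Cadd, zero_of_add h.Dadd, one_mul]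

theorem E_inj {e e' : F} (he : E e = E e') : e = e' := by
  have : E (e - e') = 1 := by
    have h1 : E (e - e') * E e' = E e' := by rw [← h.Eadd, sub_add_cancel, he]
    exact mul_eq_right.1 h1
  exact sub_eq_zero.1 (h.inj _ this)

theorem Z_le : h.Z ≤ h.Q := by
  rintro _ ⟨e, rfl⟩
  exact ⟨0, 0, 0, 0, e, h.E_eq e⟩

/-- conjugation -/
theorem conj (a b c d e a' b' c' d' e' : F) :
    P A B C D E a' b' c' d' e' * P A B C D E a b c d e * (P A B C D E a' b' c' d' e')⁻¹ =
      E (k * (d' * a - d * a') + l * (c' * b - c * b')) * P A B C D E a b c d e := by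
  rw [mul_inv_eq_iff_eq_mul, h.E_eq, mul_assoc, h.mul, h.mul a b c d e, h.mul]
  congr 1 <;> ring

theorem eq_E_mul (a b c d e : F) (s : F) : E s * P A B C D E a b c d e = P A B C D E a b c d (s + e) := by
  rw [h.E_eq, h.mul]
  congr 1 <;> ring

theorem inj5 {a b c d e a' b' c' d' e' : F} (he : P A B C D E a b c d e = P A B C D E a' b' c' d' e') :
    a = a' ∧ b = b' ∧ c = c' ∧ d = d' ∧ e = e' := by
  have key : ∀ a1 b1 c1 d1 : F, k * (d1 * a - d * a1) + l * (c1 * b - c * b1) =
      k * (d1 * a' - d' * a1) + l * (c1 * b' - c' * b1) := by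
    intro a1 b1 c1 d1
    have h1 := h.conj a b c d e a1 b1 c1 d1 0
    have h2 := h.conj a' b' c' d' e' a1 b1 c1 d1 0
    rw [he] at h1
    rw [h1] at h2
    exact h.E_inj (mul_right_cancel h2)
  have ha : a = a' := by
    have := key 0 0 0 1
    simp only [one_mul, mul_zero, sub_zero, zero_mul, add_zero] at this
    exact mul_left_cancel₀ h.k0 this
  have hb : b = b' := by
    have := key 0 0 1 0
    simp only [one_mul, mul_zero, sub_zero, zero_mul, zero_add] at this
    exact mul_left_cancel₀ h.l0 this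
  have hc : c = c' := by
    have := key 0 1 0 0
    simp only [mul_one, mul_zero, sub_zero, zero_mul, zero_add, zero_sub] at this
    exact neg_injective (mul_left_cancel₀ h.l0 this)
  have hd : d = d' := by
    have := key 1 0 0 0
    simp only [mul_one, mul_zero, sub_zero, zero_mul, add_zero, zero_sub] at this
    exact neg_injective (mul_left_cancel₀ h.k0 this)
  subst ha hb hc hd
  refine ⟨rfl, rfl, rfl, rfl, ?_⟩
  exact h.E_inj (mul_left_cancel he)

theorem card_Z [Finite F] : Nat.card h.Z = Nat.card F := by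
  refine (Nat.card_congr (Equiv.ofBijective (fun e : F => (⟨E e, e, rfl⟩ : h.Z)) ⟨?_, ?_⟩)).symm
  · intro e e' he
    exact h.E_inj (congrArg Subtype.val he)
  · rintro ⟨_, e, rfl⟩
    exact ⟨e, rfl⟩

theorem card_Q [Finite F] : Nat.card h.Q = Nat.card F ^ 5 := by
  have e1 : Nat.card (F × F × F × F × F) = Nat.card F ^ 5 := by
    simp only [Nat.card_prod]; ring
  rw [← e1]
  refine (Nat.card_congr (Equiv.ofBijective (fun x : F × F × F × F × F =>
    (⟨P A B C D E x.1 x.2.1 x.2.2.1 x.2.2.2.1 x.2.2.2.2, _, _, _, _, _, rfl⟩ : h.Q)) ⟨?_, ?_⟩)).symm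
  · rintro ⟨a, b, c, d, e⟩ ⟨a', b', c', d', e'⟩ he
    obtain ⟨h1, h2, h3, h4, h5⟩ := h.inj5 (congrArg Subtype.val he)
    simp only at h1 h2 h3 h4 h5
    rw [h1, h2, h3, h4, h5]
  · rintro ⟨_, a, b, c, d, e, rfl⟩
    exact ⟨(a, b, c, d, e), rfl⟩

theorem isConj {v : G} (hv : v ∈ h.Q) (hvZ : v ∉ h.Z) {z : G} (hz : z ∈ h.Z) : IsConj v (z * v) := by
  obtain ⟨a, b, c, d, e, rfl⟩ := hv
  obtain ⟨s, rfl⟩ := hz
  have hk := h.k0
  have hl := h.l0
  have key : ∀ a' b' c' d' : F, k * (d' * a - d * a') + l * (c' * b - c * b') = s →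
      IsConj (P A B C D E a b c d e) (E s * P A B C D E a b c d e) := by
    intro a' b' c' d' hs
    rw [isConj_iff]
    exact ⟨P A B C D E a' b' c' d' 0, by rw [h.conj, hs]⟩
  by_cases ha : a = 0
  · by_cases hb : b = 0
    · by_cases hc : c = 0
      · have hd : d ≠ 0 := by
          rintro rfl
          subst ha hb hc
          exact hvZ ⟨e, (h.E_eq e).symm⟩
        exact key (-s / (k * d)) 0 0 0 (by field_simp; ring)
      · exact key 0 (-s / (l * c)) 0 0 (by field_simp; ring)
    · exact key 0 0 (s / (l * b)) 0 (by field_simp; ring)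
  · exact key 0 0 0 (s / (k * a)) (by field_simp; ring)

theorem comm_ZQ {z y : G} (hz : z ∈ h.Z) (hy : y ∈ h.Q) : y * z = z * y := by
  obtain ⟨s, rfl⟩ := hz
  obtain ⟨a, b, c, d, e, rfl⟩ := hy
  rw [h.eq_E_mul, h.E_eq, h.mul]
  congr 1 <;> ring

/-- **The bound.** -/
theorem bound [Finite F] [Finite G] (hT : ∀ t : F, t ≠ 0 → IsConj (E 1) (E t)) {χ : G → ℂ} (hχ : IsCharacter G χ)
    (h3 : χ (E 1) ≠ χ 1) {n : ℕ} (hn : χ 1 = n) {v : G} (hv : v ∈ h.Q) (hvZ : v ∉ h.Z) :
    ‖χ v‖ ≤ n - (Nat.card F : ℝ) ^ 2 * ((Nat.card F : ℝ) - 1) := by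
  have h1 := heis_group hχ h.Z_le (fun z hz y hy => h.comm_ZQ hz hy) (fun v hv hvZ z hz => h.isConj hv hvZ hz)
    (by
      rintro _ ⟨e, rfl⟩ he _ ⟨e', rfl⟩ he'
      have h4 : e ≠ 0 := by rintro rfl; exact he (zero_of_add h.Eadd)
      have h5 : e' ≠ 0 := by rintro rfl; exact he' (zero_of_add h.Eadd)
      exact (hT e h4).symm.trans (hT e' h5))
    (z₀ := E 1) ⟨1, rfl⟩ h3 (s := Nat.card F ^ 2) (by rw [h.card_Z, h.card_Q]; ring_nf; exact le_rfl) hn hv hvZ
  rw [h.card_Z] at h1
  push_cast at h1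
  exact h1

end H5

/-! ### `G₂(q)` -/

section G2

open Cfsg.Lie Cfsg.Agent.Omega.TwoF.GTwoLB

variable (F : Type u) [Field F]

theorem g2_h5 (h3 : (3 : F) ≠ 0) : H5 F (X (F := F) 6) (X (F := F) 8) (X (F := F) 9) (X (F := F) 10) (X (F := F) 11)
    (-1) (-3) where
  Aadd := X_add 6
  Badd := X_add 8
  Cadd := X_add 9
  Dadd := X_add 10
  Eadd := X_add 11
  AB t u := rel0 (r := 6) (s := 8) (by norm_num) (by norm_num) (by decide) (by decide) (by decide +kernel) u t
  AC t u := rel0 (r := 6) (s := 9) (by norm_num) (by norm_num) (by decide) (by decide) (by decide +kernel) u t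
  AD t u := by
    rw [rel1 (r := 6) (s := 10) (k := 11) (c := 1) (by norm_num) (by norm_num) (by decide) (by decide)
      (by decide +kernel) u t]
    congr 2; push_cast; ring
  BC t u := by
    rw [rel1 (r := 8) (s := 9) (k := 11) (c := 3) (by norm_num) (by norm_num) (by decide) (by decide)
      (by decide +kernel) u t]
    congr 2; push_cast; ring
  BD t u := rel0 (r := 8) (s := 10) (by norm_num) (by norm_num) (by decide) (by decide) (by decide +kernel) u t
  CD t u := rel0 (r := 9) (s := 10) (by norm_num) (by norm_num) (by decide) (by decide) (by decide +kernel) u t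
  EA t u := rel0 (r := 6) (s := 11) (by norm_num) (by norm_num) (by decide) (by decide) (by decide +kernel) u t
  EB t u := rel0 (r := 8) (s := 11) (by norm_num) (by norm_num) (by decide) (by decide) (by decide +kernel) u t
  EC t u := rel0 (r := 9) (s := 11) (by norm_num) (by norm_num) (by decide) (by decide) (by decide +kernel) u t
  ED t u := rel0 (r := 10) (s := 11) (by norm_num) (by norm_num) (by decide) (by decide) (by decide +kernel) u t
  k0 := neg_ne_zero.2 one_ne_zero
  l0 := neg_ne_zero.2 h3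
  inj t ht := (X_eq_one (by norm_num)).1 ht

variable {F}

theorem g2_long_conj {t : F} (ht : t ≠ 0) : IsConj (X (F := F) 11 1) (X 11 t) := by
  rw [isConj_iff]
  refine ⟨H 1 t, ?_⟩
  rw [H_conj (by norm_num) (by norm_num) ht, mul_one]
  congr 1
  rw [show chevG2.cartan 1 11 = 1 by decide +kernel, zpow_one]

/-- **The bound for `G₂(q)`.** -/
theorem g2_bound [Finite F] (h3 : (3 : F) ≠ 0) {χ : ↥(chevG2.group F) → ℂ} (hχ : IsCharacter ↥(chevG2.group F) χ)
    (hne : χ (X 11 1) ≠ χ 1) {n : ℕ} (hn : χ 1 = n) {v : ↥(chevG2.group F)} (hv : v ∈ (g2_h5 F h3).Q)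
    (hvZ : v ∉ (g2_h5 F h3).Z) : ‖χ v‖ ≤ n - (Nat.card F : ℝ) ^ 2 * ((Nat.card F : ℝ) - 1) :=
  (g2_h5 F h3).bound (fun _ ht => g2_long_conj ht) hχ hne hn hv hvZ

end G2

end Cfsg.Agent.H97.TC
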